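import Mathlib
import Cfsg.Agent.H277.Cls_mg
import Cfsg.Agent.H202.PsuCount
import Cfsg.Agent.S0277
import Cfsg.Agent.S0280
import Cfsg.Agent.S0815
import Cfsg.Agent.S2705
import Cfsg.Agent.Prune
set_option linter.all false
prune_inst 0x7f00000000000000000000000000000000000000000000000000000000000000000000000000000000000000000000000000000000000000000000000000000000000000000000000000000000000000003fffffffffffffffffffffffffffbeffbdffffffff
open scoped Cfsg.Agent.FastGrp

/-!
# The groups `PSU_n(q)`, `q` odd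
-/

set_option autoImplicit false

open scoped Matrix

namespace Cfsg.Agent.H277.ClsPsu

open Cfsg Cfsg.Agent.H277.Big Cfsg.Agent.H277.Cls Cfsg.Agent.H277.ExcChev Matrix
open Cfsg.Agent.H202.Psu Cfsg.Agent.Schreier.PSU

theorem card_psu {F : Type*} [Field F] [Fintype F] {q : ℕ} (hF : Fintype.card F = q ^ 2) {n : ℕ} (hn : 3 ≤ n) :
    Nat.gcd n (q + 1) * Nat.card (PSU n F q) =
      q ^ (n * (n - 1) / 2) * ∏ i ∈ Finset.range (n - 1), (if Even i then q ^ (i + 2) - 1 else q ^ (i + 2) + 1) := by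
  have h := S0280.result hF n (by omega)
  obtain ⟨m, rfl⟩ := Nat.exists_eq_add_of_le' hn
  rw [Finset.prod_range_succ', if_pos (by decide), zero_add, pow_one, mul_left_comm, ← mul_assoc (q ^ _),
    mul_comm _ (q + 1)] at h
  have h' := Nat.eq_of_mul_eq_mul_left (show 0 < q + 1 by omega) h
  rw [h']
  congr 1
  refine Finset.prod_congr rfl fun i _ => ?_
  rcases Nat.even_or_odd i with hi | hi
  · rw [if_pos hi, if_neg (by rw [Nat.even_add_one, not_not]; exact hi)]
  · rw [if_neg (Nat.not_even_iff_odd.2 hi), if_pos hi.add_one]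

theorem f₂_injective {F : Type*} [Field F] [Fintype F] {q n : ℕ} (hF : Fintype.card F = q ^ 2) (hn : 3 ≤ n) :
    Function.Injective (f₂ : (F ≃+* F) →* MulAut (PSU n F q)) := by
  intro ρ σ h
  exact (ClassicalGeometry.PSUAutCount.eq_of_toAut_eq hF hn h).1.symm

theorem prod_le {q : ℕ} (hq : 2 ≤ q) (n : ℕ) :
    q ^ (n * (n - 1) / 2) * ∏ i ∈ Finset.range n, (if Even i then q ^ (i + 1) + 1 else q ^ (i + 1) - 1) ≤
      q ^ (n * (n + 1)) := by
  have h1 : ∏ i ∈ Finset.range n, (if Even i then q ^ (i + 1) + 1 else q ^ (i + 1) - 1) ≤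
      q ^ (n * (n + 1) / 2 + n) := by
    induction n with
    | zero => simp
    | succ n ih =>
      rw [Finset.prod_range_succ]
      have h2 : (if Even n then q ^ (n + 1) + 1 else q ^ (n + 1) - 1) ≤ q ^ (n + 2) := by
        have h3 : q ^ (n + 1) + 1 ≤ q ^ (n + 2) := by
          have h4 : 1 ≤ q ^ (n + 1) := Nat.one_le_pow _ _ (by omega)
          calc q ^ (n + 1) + 1 ≤ q ^ (n + 1) * 2 := by omega
            _ ≤ q ^ (n + 1) * q := Nat.mul_le_mul_left _ hq
            _ = _ := (pow_succ _ _).symm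
        split_ifs
        · exact h3
        · omega
      calc _ ≤ q ^ (n * (n + 1) / 2 + n) * q ^ (n + 2) := Nat.mul_le_mul ih h2
        _ = q ^ ((n + 1) * (n + 1 + 1) / 2 + (n + 1)) := by
          rw [← pow_add]
          congr 1
          have h3 : (n + 1) * (n + 1 + 1) = n * (n + 1) + (n + 1) * 2 := by ring
          rw [h3, Nat.add_mul_div_right _ _ (by norm_num)]
          omega
  calc _ ≤ q ^ (n * (n - 1) / 2) * q ^ (n * (n + 1) / 2 + n) := Nat.mul_le_mul_left _ h1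
    _ = q ^ (n * (n + 1)) := by
      rw [← pow_add]
      congr 1
      rcases n with _ | n
      · rfl
      · rw [Nat.add_sub_cancel]
        have h2 : (n + 1) * n / 2 * 2 = (n + 1) * n := by
          rw [mul_comm (n + 1)]
          exact Nat.div_mul_cancel (Nat.even_mul_succ_self n).two_dvd
        have h3 : (n + 1) * (n + 1 + 1) / 2 * 2 = (n + 1) * (n + 1 + 1) :=
          Nat.div_mul_cancel (Nat.even_mul_succ_self (n + 1)).two_dvd
        nlinarith

theorem card_pgu_le {F : Type*} [Field F] [Fintype F] {q : ℕ} (hF : Fintype.card F = q ^ 2) (hq : 2 ≤ q) (n : ℕ) :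
    Nat.card (PGU n F q) ≤ q ^ (n * (n + 1)) := by
  have h1 : Nat.card (PGU n F q) ≤ Nat.card (GU n F q) :=
    Nat.card_le_card_of_surjective _ (QuotientGroup.mk'_surjective _)
  refine h1.trans ?_
  rw [S0277.result hF n]
  exact prod_le hq n

/-- prime divisors of `gcd(n, q + 1)` -/
theorem dvd_of_dvd_gcd {F : Type*} [Field F] [Fintype F] {q : ℕ} (hF : Fintype.card F = q ^ 2) {n : ℕ} (hn : 3 ≤ n)
    {s : ℕ} (hs : s.Prime) (h : s ∣ Nat.gcd n (q + 1)) : s ∣ Nat.card (PSU n F q) := by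
  have hfin : Finite (PSU n F q) := Quotient.finite _
  by_contra hcon
  have h1 := card_psu hF hn
  obtain ⟨m, rfl⟩ := Nat.exists_eq_add_of_le' hn
  have h2 : (q + 1) * (q + 1) ∣ Nat.gcd (m + 3) (q + 1) * Nat.card (PSU (m + 3) F q) := by
    rw [h1, show m + 3 - 1 = m + 1 + 1 by omega, Finset.prod_range_succ', Finset.prod_range_succ']
    have e1 : q + 1 ∣ q ^ (0 + 1 + 2) + 1 := by
      have := Odd.nat_add_dvd_pow_add_pow q 1 (show Odd 3 by decide)
      rwa [one_pow] at this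
    have e2 : q + 1 ∣ q ^ (0 + 2) - 1 := ⟨q - 1, by
      rw [zero_add, ← Nat.sq_sub_sq]⟩
    rw [if_neg (by decide), if_pos (by decide)]
    exact ((mul_dvd_mul (e1.mul_left _) e2)).mul_left _
  exact absurd h2 (not_sq_dvd (by omega) (Nat.gcd_dvd_right _ _) Nat.card_pos.ne' hs (h.trans (Nat.gcd_dvd_right _ _)) hcon)

theorem moves_psu {F : Type} [Field F] [Fintype F] {p : ℕ} [CharP F p] (hp2 : p ≠ 2) {n q : ℕ}
    (hF : Fintype.card F = q ^ 2) (hn : 3 ≤ n) (h32 : ¬ (n = 3 ∧ q = 2))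
    (hZ : Subgroup.center (PSU n F q) = ⊥) (h2K : 2 ∣ Nat.card (PSU n F q)) : Moves (PSU n F q) := by
  intro α hr hα h5 h2 h3 t ht
  have hpp : p.Prime := CharP.char_is_prime F p
  have : Fact p.Prime := ⟨hpp⟩
  have hfin : Finite (PSU n F q) := Quotient.finite _
  obtain ⟨k, -, hk⟩ := FiniteField.card F p
  obtain ⟨f, -, hq⟩ := (Nat.dvd_prime_pow hpp).1 (show q ∣ p ^ (k : ℕ) by rw [← hk, hF]; exact dvd_pow_self q (by norm_num))
  have hFp : Fintype.card F = p ^ (2 * f) := by rw [hF, hq, ← pow_mul, mul_comm]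
  have hf : f ≠ 0 := by
    rintro rfl
    have := Fintype.one_lt_card (α := F)
    rw [hFp, mul_zero, pow_zero] at this
    omega
  have hcard : Nat.card (MulAut (PSU n F q)) ∣ Nat.gcd n (q + 1) * (2 * f) * Nat.card (PSU n F q) := by
    rw [S0815.result p f (by omega) hq hF n hn h32]
  obtain ⟨g, σ, hg, hσ, hσr, hrf⟩ := exists_field hZ (Schreier.PSU.sch hF hn h32) hFp f₂ (f₂_injective hF hn) hcard
    (fun s hs hsd => dvd_of_dvd_gcd hF hn hs hsd) hr hα
  have hro : Odd (orderOf α) := hr.odd_of_ne_two (by omega)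
  have hcl : IsFieldAutClassPSU α := ⟨g, f₂ σ, σ, hσ, by rw [hσr]; exact hro, (isFieldAut_iff _ _).2 rfl, hg⟩
  have hrf' : orderOf α ∣ f := by
    rcases (hr.dvd_mul).1 hrf with h | h
    · exact absurd ((Nat.prime_dvd_prime_iff_eq hr Nat.prime_two).1 h) (by omega)
    · exact h
  obtain ⟨-, -, -, -, -, hj, hq₀, hpow⟩ := exists_subfield (p := p) hf hr hrf'
  obtain ⟨F₀, _, _, _, hF₀, -, -, -⟩ := exists_subfield (p := p) (f := 2 * f) (by omega) hr hrf
  have hF₀' : Fintype.card F₀ = p ^ (2 * (f / orderOf α)) := by rw [hF₀, Nat.mul_div_assoc _ hrf']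
  obtain ⟨-, hiso, -⟩ := S2705.result hq (by omega) hF hn h32 α hcl hr hro rfl F₀ hF₀'
  have hfr : 128 ≤ q := by rw [hq, ← hpow]; exact big_le hpp hp2 rfl hj h5
  refine moved (p := p) (big_psu hF hn (hpp.odd_of_ne_two hp2) hfr) (q₀ := p ^ (f / orderOf α))
    (a := n * (n + 1)) (b := n * (n - 1) / 2) (r := orderOf α) (k := f * (n * (n - 1) / 2)) hq₀ h5 ?_ ?_
    (by rw [hpow, ← pow_mul]) (by rw [card_psu hF hn, pow_mul, ← hq]) ?_ ht
  · obtain ⟨m, rfl⟩ := Nat.exists_eq_add_of_le' hn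
    have h1 : (m + 3) * (m + 3 - 1) / 2 * 2 = (m + 3) * (m + 2) := by
      rw [show m + 3 - 1 = m + 2 by omega, mul_comm (m + 3)]
      exact Nat.div_mul_cancel (Nat.even_mul_succ_self (m + 2)).two_dvd
    nlinarith
  · intro h
    have h1 := h.trans (Nat.gcd_dvd_right _ _)
    have h2 : p ∣ q := by rw [hq]; exact dvd_pow_self p hf
    have h3 := (Nat.dvd_add_right h2).1 h1
    exact hpp.one_lt.ne' (Nat.dvd_one.1 h3)
  · intro C hC
    refine (card_le hZ (H := inndiagPSU n F q) (fun x => ?_) hiso hC).trans ?_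
    · exact Cfsg.Agent.H202.PsuCount.inn_le hF ⟨x, rfl⟩
    · exact card_pgu_le (by rw [hF₀', ← pow_mul, mul_comm]) hq₀ n

end Cfsg.Agent.H277.ClsPsu
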