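import Mathlib
import Cfsg.Agent.H277.Cls_mg
import Cfsg.Agent.Schreier.ClassPSp
import Cfsg.Agent.H206.PspFix
import Cfsg.Agent.H999.PslGraphSplit
import Cfsg.Agent.S0245
import Cfsg.Agent.S0246
import Cfsg.Agent.S0814
import Cfsg.Agent.S2712
import Cfsg.Agent.Prune
set_option linter.all false
prune_inst 0x7f00000000000000000000000000000000000000000000000000000000000000000000000000000000000000000000000000000000000000000000000000000000000000000000000000000000000000003fffffffffffffffffffffffffffbeffbdffffffff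
open scoped Cfsg.Agent.FastGrp

/-!
# The groups `PSp_{2m}(q)`, `q` odd
-/

set_option autoImplicit false

open scoped Matrix

namespace Cfsg.Agent.H277.ClsPsp

open Cfsg Cfsg.Agent.H277.Big Cfsg.Agent.H277.Cls Cfsg.Agent.H277.ExcChev Matrix
open Cfsg.Agent.ClassicalGeometry.SympAutSemi Cfsg.Agent.ClassicalGeometry.SympGamma Cfsg.Agent.H966.PSpAut
  Cfsg.Agent.H206.PspFix

theorem card_psp {F : Type*} [Field F] [Fintype F] {q : ℕ} (hF : Fintype.card F = q) {m : ℕ} (hm : 1 ≤ m) :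
    Nat.gcd 2 (q - 1) * Nat.card (PSp m F) = q ^ (m ^ 2) * ∏ i ∈ Finset.range m, (q ^ (2 * (i + 1)) - 1) := by
  have h1 := S0245.result hF m
  have h2 := S0246.result hF m hm
  have h3 := Subgroup.card_mul_index (Subgroup.center ↥(Matrix.symplecticGroup (Fin m) F))
  rw [h1, h2] at h3
  exact h3

theorem prod_le (q m : ℕ) : ∏ i ∈ Finset.range m, (q ^ (2 * (i + 1)) - 1) ≤ q ^ (m * (m + 1)) := by
  induction m with
  | zero => simp
  | succ m ih =>
    rw [Finset.prod_range_succ]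
    calc _ ≤ q ^ (m * (m + 1)) * q ^ (2 * (m + 1)) := Nat.mul_le_mul ih (Nat.sub_le _ _)
      _ = q ^ ((m + 1) * (m + 1 + 1)) := by rw [← pow_add]; congr 1; ring

theorem card_pgsp_le (F : Type*) [Field F] [Fintype F] {m : ℕ} (hm : 1 ≤ m) :
    Nat.card (PGSp m F) ≤ Fintype.card F ^ (2 * m ^ 2 + m) := by
  have hne : Nonempty (Fin m ⊕ Fin m) := ⟨Sum.inl ⟨0, by omega⟩⟩
  have hJ : (J (Fin m) F) ≠ 0 := by
    intro h
    have := (isUnit_det_J (Fin m) F).ne_zero
    rw [h, det_zero] at this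
    exact this rfl
  obtain ⟨d, hd, h3⟩ := Cfsg.Agent.H999.PslGraphSplit.card_proj hJ
  have hu : 0 < Nat.card Fˣ := Nat.card_pos
  have h4 : Nat.card (PGSp m F) * Nat.card Fˣ ≤ Nat.card ↥(Matrix.symplecticGroup (Fin m) F) * Nat.card Fˣ := by
    rw [← Nat.card_congr (Cfsg.Agent.H999.PslGraphTwo.isoJ (m := m) (F := F)).toEquiv]
    calc _ = _ := h3
      _ ≤ _ := Nat.mul_le_mul_left _ (Nat.le_of_dvd hu hd)
  refine (Nat.le_of_mul_le_mul_right h4 hu).trans ?_
  rw [S0245.result rfl m]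
  calc _ ≤ Fintype.card F ^ (m ^ 2) * Fintype.card F ^ (m * (m + 1)) := Nat.mul_le_mul_left _ (prod_le _ _)
    _ = _ := by rw [← pow_add]; congr 1; ring

theorem moves_psp {F : Type} [Field F] [Fintype F] {p : ℕ} [CharP F p] (hp2 : p ≠ 2) {m : ℕ} (hm : 2 ≤ m)
    (hZ : Subgroup.center (PSp m F) = ⊥) (h2K : 2 ∣ Nat.card (PSp m F)) : Moves (PSp m F) := by
  intro α hr hα h5 h2 h3 t ht
  have hpp : p.Prime := CharP.char_is_prime F p
  have : Fact p.Prime := ⟨hpp⟩
  have hfin : Finite (PSp m F) := Quotient.finite _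
  obtain ⟨f, -, hF⟩ := FiniteField.card F p
  have hp3 : 3 ≤ p := by have := hpp.two_le; omega
  have hF3 : 3 ≤ p ^ (f : ℕ) := by
    calc 3 ≤ p := hp3
      _ = p ^ 1 := (pow_one p).symm
      _ ≤ _ := Nat.pow_le_pow_right hpp.pos f.pos
  have hcard : Nat.card (MulAut (PSp m F)) ∣ 2 * f * Nat.card (PSp m F) := by
    rw [S0814.result p f f.pos hF m hm (fun _ => hF3), if_neg (fun h => hp2 h.2), one_mul]
    exact mul_dvd_mul_right (mul_dvd_mul_right (Nat.gcd_dvd_left _ _) _) _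
  obtain ⟨g, σ, hg, hσ, -, hrf⟩ := exists_field hZ
    (Schreier.ClassPSp.sch hm (fun _ => by rw [Nat.card_eq_fintype_card, hF]; exact hF3)) hF (phi m F)
    (phi_injective (by omega)) hcard
    (fun s hs hsd => by rwa [(Nat.prime_dvd_prime_iff_eq hs Nat.prime_two).1 hsd]) hr hα
  have hcl : IsFieldAutClassPSp α := ⟨g, σ, hσ, eq_Psi_frob.2 (by rw [hg]; rfl)⟩
  obtain ⟨F₀, _, _, _, hF₀, hj, hq₀, hpow⟩ := exists_subfield (p := p) f.ne_zero hr hrf
  obtain ⟨-, hiso, -⟩ := S2712.result hF f.pos hm (fun _ => hF ▸ hF3) α hcl hr rfl F₀ hF₀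
  have hfr : 128 ≤ p ^ (f : ℕ) := by rw [← hpow]; exact big_le hpp hp2 rfl hj h5
  refine moved (p := p) (big_psp (by omega) (hpp.odd_of_ne_two hp2) (by rw [Nat.card_eq_fintype_card, hF]; exact hfr))
    (q₀ := p ^ ((f : ℕ) / orderOf α)) (a := 2 * m ^ 2 + m) (b := m ^ 2) (r := orderOf α) (k := f * m ^ 2) hq₀ h5 ?_ ?_
    (by rw [hpow, ← pow_mul]) (by rw [card_psp hF (by omega), pow_mul]) ?_ ht
  · nlinarith
  · intro h
    have h1 := h.trans (Nat.gcd_dvd_left _ _)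
    exact hp2 ((Nat.prime_dvd_prime_iff_eq hpp Nat.prime_two).1 h1)
  · intro C hC
    refine (card_le hZ (H := inndiagPSp m F) (fun x => ?_) hiso hC).trans ?_
    · exact Cfsg.Agent.H202.PspSplit.inn_le ⟨x, rfl⟩
    · rw [← hF₀]
      exact card_pgsp_le F₀ (by omega)

end Cfsg.Agent.H277.ClsPsp
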